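import Mathlib.RingTheory.Valuation.LocalSubring
import Mathlib.RingTheory.Valuation.ValuationSubring
import Mathlib.FieldTheory.IsAlgClosed.Basic
import Mathlib.FieldTheory.SeparableDegree
import Mathlib.Algebra.Polynomial.Lifts
import Mathlib.RingTheory.IntegralClosure.IntegrallyClosed

/-!
Value groups do not grow along simple roots.
-/

universe u

open Polynomial IsLocalRing

namespace Groth.Agent.ValEtH7

variable {Ω : Type u} [Field Ω] (W : ValuationSubring Ω)

theorem mem_of_root {q : W[X]} (hq : q.Monic) {x : Ω} (hx : eval₂ W.subtype x q = 0) : x ∈ W := by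
  obtain ⟨y, hy⟩ := (IsIntegrallyClosed.isIntegral_iff (R := W) (K := Ω)).mp ⟨q, hq, hx⟩
  exact hy ▸ y.2

/-- A root whose value differs from the values of the other roots has value in the group of the
coefficients. -/
theorem exists_coeff_of_unique {P : Ω[X]} {b : Ω} (M : Multiset Ω)
    (hP : P = ((b ::ₘ M).map fun r => X - C r).prod) (hb : b ≠ 0)
    (huniq : ∀ r ∈ M, W.valuation r ≠ W.valuation b) :
    ∃ k, P.coeff k ≠ 0 ∧ P.coeff (k + 1) ≠ 0 ∧
      W.valuation b = W.valuation (P.coeff k / P.coeff (k + 1)) := by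
  classical
  suffices key : ∃ (m : ℕ) (s : Ω) (Q : W[X]), s ≠ 0 ∧
      (P.comp (C b * X)) = C s * Q.map W.subtype ∧
      (∃ c : ResidueField W, c ≠ 0 ∧
        Q.map (residue W) = C c * X ^ m * (X - 1)) by
    obtain ⟨m, s, Q, hs, hQ, c, hc, hQr⟩ := key
    have h1 : residue W (Q.coeff m) = -c := by
      rw [← coeff_map, hQr, mul_sub, mul_one, coeff_sub, mul_assoc, ← pow_succ, coeff_C_mul_X_pow,
        coeff_C_mul_X_pow]
      simp
    have h2 : residue W (Q.coeff (m + 1)) = c := by
      rw [← coeff_map, hQr, mul_sub, mul_one, coeff_sub, mul_assoc, ← pow_succ, coeff_C_mul_X_pow,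
        coeff_C_mul_X_pow]
      simp
    have hu1 : W.valuation (Q.coeff m : Ω) = 1 := (W.valuation_eq_one_iff _).mp
      ((residue_ne_zero_iff_isUnit _).mp (by rw [h1]; exact neg_ne_zero.mpr hc))
    have hu2 : W.valuation (Q.coeff (m + 1) : Ω) = 1 := (W.valuation_eq_one_iff _).mp
      ((residue_ne_zero_iff_isUnit _).mp (by rw [h2]; exact hc))
    have hcoef : ∀ k, P.coeff k * b ^ k = s * (Q.coeff k : Ω) := fun k => by
      have := congrArg (fun q => coeff q k) hQ
      rwa [comp_C_mul_X_coeff, coeff_C_mul, coeff_map] at this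
    have hne : ∀ k, W.valuation (Q.coeff k : Ω) = 1 → P.coeff k ≠ 0 := fun k hk h0 => by
      have := hcoef k
      rw [h0, zero_mul, eq_comm, mul_eq_zero, or_iff_right hs] at this
      rw [this, map_zero] at hk
      exact zero_ne_one hk
    refine ⟨m, hne m hu1, hne _ hu2, ?_⟩
    rw [show P.coeff m / P.coeff (m + 1) = b * ((Q.coeff m : Ω) / (Q.coeff (m + 1) : Ω)) from ?_,
      map_mul, map_div₀, hu1, hu2, div_one, mul_one]
    have h0 : (Q.coeff (m + 1) : Ω) ≠ 0 := fun h0 => by rw [h0, map_zero] at hu2; exact zero_ne_one hu2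
    rw [mul_div_assoc', div_eq_div_iff (hne _ hu2) h0]
    refine mul_left_cancel₀ (pow_ne_zero m hb) ?_
    have e1 := hcoef m
    have e2 := hcoef (m + 1)
    rw [pow_succ] at e2
    linear_combination (Q.coeff (m + 1) : Ω) * e1 - (Q.coeff m : Ω) * e2
  subst hP
  induction M using Multiset.induction with
  | empty =>
    refine ⟨0, b, X - 1, hb, ?_, 1, one_ne_zero, by simp⟩
    simp [mul_sub]
  | cons r M ih =>
    obtain ⟨m, s, Q, hs, hQ, c, hc, hQr⟩ := ih fun x hx => huniq x (Multiset.mem_cons_of_mem hx)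
    rw [Multiset.cons_swap, Multiset.map_cons, Multiset.prod_cons, mul_comp, sub_comp, X_comp,
      C_comp, hQ]
    rcases lt_or_gt_of_ne (huniq r (Multiset.mem_cons_self r M)) with hlt | hgt
    · -- `r` is smaller than `b`
      have hmem : r / b ∈ W := by
        rw [← W.valuation_le_one_iff, map_div₀]
        exact div_le_one_of_le₀ hlt.le zero_le
      let t : W := ⟨r / b, hmem⟩
      have ht : residue W t = 0 := by
        rw [residue_eq_zero_iff, W.valuation_lt_one_iff]
        show W.valuation (r / b) < 1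
        rw [map_div₀, div_lt_one₀ (zero_lt_iff.mpr (by simpa using hb))]
        exact hlt
      refine ⟨m + 1, b * s, (X - C t) * Q, mul_ne_zero hb hs, ?_, c, hc, ?_⟩
      · rw [Polynomial.map_mul, Polynomial.map_sub, map_X, map_C,
          show W.subtype t = r / b from rfl,
          show C b * X - C r = C b * (X - C (r / b)) by
            rw [mul_sub, ← C_mul, mul_div_cancel₀ _ hb], C_mul]
        ring
      · rw [Polynomial.map_mul, Polynomial.map_sub, map_X, map_C, ht, C_0, sub_zero, hQr]
        ring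
    · -- `r` is larger than `b`
      have hr : r ≠ 0 := fun h => by rw [h, map_zero] at hgt; exact not_lt_zero hgt
      have hmem : b / r ∈ W := by
        rw [← W.valuation_le_one_iff, map_div₀]
        exact div_le_one_of_le₀ hgt.le zero_le
      let t : W := ⟨b / r, hmem⟩
      have ht : residue W t = 0 := by
        rw [residue_eq_zero_iff, W.valuation_lt_one_iff]
        show W.valuation (b / r) < 1
        rw [map_div₀, div_lt_one₀ (zero_lt_iff.mpr (by simpa using hr))]
        exact hgt
      refine ⟨m, r * s, (C t * X - 1) * Q, mul_ne_zero hr hs, ?_, -c, neg_ne_zero.mpr hc, ?_⟩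
      · rw [Polynomial.map_mul, Polynomial.map_sub, Polynomial.map_mul, map_X, map_C,
          Polynomial.map_one, show W.subtype t = b / r from rfl,
          show C b * X - C r = C r * (C (b / r) * X - 1) by
            rw [mul_sub, ← mul_assoc, ← C_mul, mul_div_cancel₀ _ hr, mul_one], C_mul]
        ring
      · rw [Polynomial.map_mul, Polynomial.map_sub, Polynomial.map_mul, map_X, map_C,
          Polynomial.map_one, ht, C_0, zero_mul, zero_sub, hQr, C_neg]
        ring

/-- The value of `z` is the value of an element of `F`. -/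
def HasValue (F : Type u) [Field F] [Algebra F Ω] (z : Ω) : Prop :=
  ∃ a : F, W.valuation z = W.valuation (algebraMap F Ω a)

variable {F : Type u} [Field F] [Algebra F Ω]

theorem hasValue_of_residual {α : Ω} (hα : α ∈ W) {h : F[X]} (hh : h.Monic)
    (hα0 : aeval α h = 0)
    (hmin : ∀ g : W[X], (∀ i, ∃ a : F, (g.coeff i : Ω) = algebraMap F Ω a) →
      g.natDegree < h.natDegree → (∃ i, W.valuation (g.coeff i : Ω) = 1) →
      W.valuation (eval₂ W.subtype α g) = 1)
    {z : Ω} (hz : z ∈ IntermediateField.adjoin F ({α} : Set Ω)) :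
    HasValue W F z := by
  classical
  have halg : IsAlgebraic F α := ⟨h, hh.ne_zero, hα0⟩
  rw [← IntermediateField.mem_toSubalgebra,
    IntermediateField.adjoin_simple_toSubalgebra_of_isAlgebraic halg,
    Algebra.adjoin_singleton_eq_range_aeval] at hz
  obtain ⟨p, rfl⟩ := hz
  show HasValue W F (aeval α p)
  rw [← modByMonic_add_div p h, map_add, map_mul, hα0, zero_mul, add_zero]
  rcases eq_or_ne h 1 with rfl | h1
  · exact ⟨0, by simp⟩
  set g := p %ₘ h
  have hg : g.natDegree < h.natDegree := natDegree_modByMonic_lt p hh h1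
  rcases eq_or_ne g 0 with hg0 | hg0
  · exact ⟨0, by simp [hg0]⟩
  obtain ⟨i₀, hi₀, hmax⟩ := g.support.exists_max_image
    (fun i => W.valuation (algebraMap F Ω (g.coeff i))) (support_nonempty.mpr hg0)
  have ha : algebraMap F Ω (g.coeff i₀) ≠ 0 := by
    simpa using mem_support_iff.mp hi₀
  let g₀ : F[X] := C (g.coeff i₀)⁻¹ * g
  have hle : ∀ i, algebraMap F Ω (g₀.coeff i) ∈ W := fun i => by
    rw [coeff_C_mul, map_mul, map_inv₀, ← W.valuation_le_one_iff, map_mul, map_inv₀,
      inv_mul_le_one₀ (zero_lt_iff.mpr (by simpa using ha))]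
    by_cases hi : i ∈ g.support
    · exact hmax i hi
    · rw [notMem_support_iff.mp hi, map_zero, map_zero]
      exact zero_le
  have hlift : g₀.map (algebraMap F Ω) ∈ lifts W.subtype :=
    (lifts_iff_coeff_lifts _).mpr fun i => ⟨⟨_, hle i⟩, (coeff_map _ i).symm⟩
  obtain ⟨G, hG⟩ := hlift
  have hGc : ∀ i, (G.coeff i : Ω) = algebraMap F Ω (g₀.coeff i) := fun i => by
    have := congrArg (fun q => coeff q i) hG
    simpa using this
  have := hmin G (fun i => ⟨_, hGc i⟩) (lt_of_le_of_lt (natDegree_le_iff_coeff_eq_zero.mpr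
    fun k hk => Subtype.ext (by
      rw [hGc, coeff_eq_zero_of_natDegree_lt (lt_of_le_of_lt (natDegree_C_mul_le _ _) hk),
        map_zero]
      rfl)) hg)
    ⟨i₀, by rw [hGc, coeff_C_mul, inv_mul_cancel₀ (mem_support_iff.mp hi₀), map_one, map_one]⟩
  refine ⟨g.coeff i₀, ?_⟩
  rw [show eval₂ W.subtype α G = aeval α g₀ by
    rw [← eval_map, show G.map W.subtype = g₀.map (algebraMap F Ω) from hG, eval_map]; rfl,
    map_mul, aeval_C, map_mul] at this
  rwa [map_inv₀, map_inv₀, inv_mul_eq_one₀ (by simpa using ha), eq_comm] at this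

theorem hasValue_of_simple_root [IsAlgClosed Ω] {x : Ω} (hx : x ∈ W) {f : W[X]} (hf : f.Monic)
    (hfF : ∀ i, ∃ a : F, (f.coeff i : Ω) = algebraMap F Ω a) (hfx : eval₂ W.subtype x f = 0)
    (hder : W.valuation (eval₂ W.subtype x f.derivative) = 1)
    {α : F} (hα : W.valuation (x - algebraMap F Ω α) < 1)
    {z : Ω} (hz : z ∈ IntermediateField.adjoin F ({x} : Set Ω)) : HasValue W F z := by
  classical
  set L := IntermediateField.adjoin F ({x} : Set Ω)
  obtain ⟨fF, hfF', -, hfFm⟩ := lifts_and_degree_eq_and_monic (f := algebraMap F Ω)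
    (p := f.map W.subtype)
    ((lifts_iff_coeff_lifts _).mpr fun i => by
      obtain ⟨a, ha⟩ := hfF i
      exact ⟨a, by rw [coeff_map]; exact ha.symm⟩) (hf.map _)
  have hroot : aeval x fF = 0 := by rw [aeval_def, ← eval_map, hfF', eval_map, hfx]
  have hder' : aeval x (derivative fF) ≠ 0 := by
    rw [aeval_def, ← eval_map, ← derivative_map, hfF', derivative_map, eval_map]
    intro h0
    rw [h0, map_zero] at hder
    exact zero_ne_one hder
  have hint : IsIntegral F x := ⟨fF, hfFm, hroot⟩
  have hsep : IsSeparable F x := by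
    obtain ⟨q, hq⟩ := minpoly.dvd F x hroot
    rw [IsSeparable, separable_iff_derivative_ne_zero (minpoly.irreducible hint)]
    intro h0
    apply hder'
    rw [hq, derivative_mul, h0, zero_mul, zero_add, map_mul, minpoly.aeval, zero_mul]
  have : FiniteDimensional F L := IntermediateField.adjoin.finiteDimensional hint
  have : Algebra.IsSeparable F L :=
    (IntermediateField.isSeparable_adjoin_simple_iff_isSeparable F Ω).mpr hsep
  rcases eq_or_ne (x - algebraMap F Ω α) 0 with hu0 | hu0
  · have : L ≤ ⊥ := IntermediateField.adjoin_simple_le_iff.mpr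
      (IntermediateField.mem_bot.mpr ⟨α, (sub_eq_zero.mp hu0).symm⟩)
    obtain ⟨a, ha⟩ := IntermediateField.mem_bot.mp (this hz)
    exact ⟨a, by rw [ha]⟩
  rcases eq_or_ne z 0 with rfl | hz0
  · exact ⟨0, by simp⟩
  set v := W.valuation
  have hxL : x ∈ L := IntermediateField.mem_adjoin_simple_self F x
  let x' : L := ⟨x, hxL⟩
  let u : L := x' - algebraMap F L α
  let z' : L := ⟨z, hz⟩
  have hu : (u : Ω) = x - algebraMap F Ω α := rfl
  have hsigma : ∀ σ : L →ₐ[F] Ω, σ ≠ L.val → v (σ u) = 1 := by
    intro σ hσ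
    have hne : σ x' ≠ x := fun h => hσ (IntermediateField.algHom_ext_of_eq_adjoin _ rfl (by rintro a rfl; exact h.trans rfl))
    have hxW : eval₂ W.subtype (σ x') f = 0 := by
      rw [← eval_map, ← hfF', eval_map, ← aeval_def, aeval_algHom_apply,
        show aeval x' fF = 0 from Subtype.ext
          ((aeval_algHom_apply L.val x' fF).symm.trans hroot), map_zero]
    let xW : W := ⟨x, hx⟩
    have hq : (X - C xW) * (f /ₘ (X - C xW)) = f := mul_divByMonic_eq_iff_isRoot.mpr
      (W.subtype_injective (by rw [← eval₂_at_apply, map_zero]; exact hfx))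
    set q := f /ₘ (X - C xW)
    let y : W := ⟨σ x', mem_of_root W hf hxW⟩
    have hy : q.eval y = 0 := by
      have h1 : f.eval y = 0 := W.subtype_injective (by
        rw [← eval₂_at_apply, map_zero]; exact hxW)
      rw [← hq, eval_mul, eval_sub, eval_X, eval_C, mul_eq_zero] at h1
      exact h1.resolve_left fun h => hne (congrArg Subtype.val (sub_eq_zero.mp h))
    have hqx : IsUnit (q.eval xW) := by
      rw [W.valuation_eq_one_iff]
      have h2 : f.derivative.eval xW = q.eval xW := by rw [← hq]; simp [derivative_mul]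
      rw [← h2, show ((f.derivative.eval xW : W) : Ω) = eval₂ W.subtype x f.derivative from
        (eval₂_at_apply W.subtype xW).symm]
      exact hder
    have hsub : ¬ v ((y : Ω) - x) < 1 := by
      intro hlt
      have hres : residue W y = residue W xW := by
        rw [← sub_eq_zero, ← map_sub, residue_eq_zero_iff, W.valuation_lt_one_iff]
        exact hlt
      have h3 : residue W (q.eval y) = residue W (q.eval xW) := by
        rw [← eval₂_at_apply, hres, eval₂_at_apply]
      rw [hy, map_zero, eq_comm] at h3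
      exact (residue_ne_zero_iff_isUnit _).mpr hqx h3
    have h4 : v ((y : Ω) - x) = 1 :=
      le_antisymm ((W.valuation_le_one_iff _).mpr (sub_mem y.2 hx)) (not_lt.mp hsub)
    rw [map_sub, AlgHom.commutes, show σ x' - algebraMap F Ω α =
      ((y : Ω) - x) + (x - algebraMap F Ω α) by show _ = (σ x' - x) + _; ring,
      Valuation.map_add_eq_of_lt_left _ (by rw [h4]; exact hα), h4]
  have hvu : 0 < v (u : Ω) := zero_lt_iff.mpr (by rw [hu]; simpa using hu0)
  have hvz : v z ≠ 0 := by simpa using hz0
  have hanti : StrictAnti fun n : ℕ => v z * v (u : Ω) ^ n :=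
    fun a b hab => mul_lt_mul_of_pos_left (pow_lt_pow_right_of_lt_one₀ hvu (by rw [hu]; exact hα) hab)
      (zero_lt_iff.mpr hvz)
  have hfin : {n : ℕ | ∃ σ : L →ₐ[F] Ω, v (σ z') = v z * v (u : Ω) ^ n}.Finite := by
    refine (Set.finite_iUnion fun σ : L →ₐ[F] Ω =>
      (Set.Subsingleton.finite (s := {n : ℕ | v (σ z') = v z * v (u : Ω) ^ n})
        fun a ha b hb => hanti.injective (ha.symm.trans hb))).subset fun n ⟨σ, hσ⟩ =>
      Set.mem_iUnion.mpr ⟨σ, hσ⟩
  obtain ⟨N, hN⟩ := hfin.bddAbove
  have key : ∀ n, N < n → HasValue W F (z * (u : Ω) ^ n) := by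
    intro n hn
    let y : L := z' * u ^ n
    have hroots := (Algebra.IsAlgebraic.range_eval_eq_rootSet_minpoly (F := F) (A := Ω) y)
    set P := (minpoly F y).map (algebraMap F Ω)
    have hyint : IsIntegral F y := Algebra.IsIntegral.isIntegral y
    have hnodup : P.roots.Nodup :=
      nodup_roots (Polynomial.Separable.map (Algebra.IsSeparable.isSeparable F y))
    have hmem : (y : Ω) ∈ P.roots := by
      rw [mem_roots ((minpoly.monic hyint).map _).ne_zero, IsRoot.def, eval_map, ← aeval_def]
      exact (aeval_algHom_apply L.val y _).trans (by rw [minpoly.aeval, map_zero])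
    obtain ⟨M, hM⟩ := Multiset.exists_cons_of_mem hmem
    have hPprod : P = (((y : Ω) ::ₘ M).map fun r => X - C r).prod := by
      rw [← hM]
      exact (IsAlgClosed.splits P).eq_prod_roots_of_monic ((minpoly.monic hyint).map _)
    have hy0 : (y : Ω) ≠ 0 := mul_ne_zero hz0 (pow_ne_zero _ (by rw [hu]; exact hu0))
    obtain ⟨k, hk, hk1, hk2⟩ := exists_coeff_of_unique W M hPprod hy0 fun r hr => by
      have hrne : r ≠ (y : Ω) := fun h => by
        rw [hM, Multiset.nodup_cons] at hnodup
        exact hnodup.1 (h ▸ hr)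
      have : r ∈ (minpoly F y).rootSet Ω := by
        rw [rootSet_def, Finset.mem_coe, Multiset.mem_toFinset, aroots, hM]
        exact Multiset.mem_cons_of_mem hr
      obtain ⟨σ, rfl⟩ := hroots.ge this
      have hσ : σ ≠ L.val := fun h => hrne (by rw [h]; rfl)
      show v (σ (z' * u ^ n)) ≠ v (z * (u : Ω) ^ n)
      rw [map_mul σ, map_pow σ, map_mul, map_pow, hsigma σ hσ, one_pow, mul_one, map_mul, map_pow]
      exact fun h => absurd (hN ⟨σ, h⟩) (by omega)
    exact ⟨(minpoly F y).coeff k / (minpoly F y).coeff (k + 1), by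
      rw [map_div₀, show algebraMap F Ω ((minpoly F y).coeff k) = P.coeff k from (coeff_map _ _).symm,
        show algebraMap F Ω ((minpoly F y).coeff (k + 1)) = P.coeff (k + 1) from (coeff_map _ _).symm]
      exact hk2⟩
  obtain ⟨a, ha⟩ := key (N + 1) (by omega)
  obtain ⟨b, hb⟩ := key (N + 2) (by omega)
  rw [map_mul, map_pow] at ha hb
  have hvu' : v (algebraMap F Ω (b / a)) = v (u : Ω) := by
    rw [map_div₀, map_div₀, ← ha, ← hb, show N + 2 = N + 1 + 1 from rfl, pow_succ _ (N + 1),
      ← mul_assoc, mul_div_cancel_left₀]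
    exact mul_ne_zero hvz (pow_ne_zero _ hvu.ne')
  exact ⟨a / (b / a) ^ (N + 1), by
    rw [map_div₀ (algebraMap F Ω), map_pow (algebraMap F Ω), map_div₀ W.valuation, map_pow W.valuation,
      hvu', ← ha, mul_div_cancel_right₀]
    exact pow_ne_zero _ hvu.ne'⟩

end Groth.Agent.ValEtH7
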