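import Groth.Agent.Lib.ValEtH7.Basic
import Groth.Agent.Lib.Hens.Normal
import Mathlib.RingTheory.Valuation.ValuationRing
import Mathlib.RingTheory.Unramified.LocalStructure
import Mathlib.RingTheory.Etale.StandardEtale
import Mathlib.FieldTheory.IsAlgClosed.AlgebraicClosure
import Mathlib.RingTheory.LocalRing.ResidueField.Basic
import Mathlib.RingTheory.Valuation.Integral
import Mathlib.RingTheory.Bezout
import Mathlib.RingTheory.Polynomial.RationalRoot

/-!
Local rings of étale algebras over valuation rings are valuation rings with the same values.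
-/

universe u

open Polynomial IsLocalRing

namespace Groth.Agent.ValEtH7

/-- A root of a polynomial with a unit coefficient over a normal local domain, or its inverse,
lies in the ring. -/
theorem mem_or_inv_of_unit_coeff {G L : Type u} [CommRing G] [IsLocalRing G] [IsDomain G]
    [IsIntegrallyClosed G] [Field L] [Algebra G L] [IsFractionRing G L] {x : L} (P : G[X])
    (hP : aeval x P = 0) (hu : ∃ i, IsUnit (P.coeff i)) :
    (∃ y, algebraMap G L y = x) ∨ ∃ y, algebraMap G L y * x = 1 := by
  suffices ∀ (n : ℕ) (P : G[X]), P.natDegree ≤ n → aeval x P = 0 → (∃ i, IsUnit (P.coeff i)) →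
      (∃ y, algebraMap G L y = x) ∨ ∃ y, algebraMap G L y * x = 1 from
    this _ P le_rfl hP hu
  intro n
  induction n with
  | zero =>
    intro P hn hP ⟨i, hi⟩
    rcases Nat.eq_zero_or_pos i with rfl | hi0
    · rw [eq_C_of_natDegree_le_zero hn, aeval_C] at hP
      exact absurd hP (hi.map (algebraMap G L)).ne_zero
    · rw [coeff_eq_zero_of_natDegree_lt (lt_of_le_of_lt hn hi0)] at hi
      exact absurd hi not_isUnit_zero
  | succ n ih =>
    intro P hn hP ⟨i, hi⟩
    rcases lt_or_eq_of_le hn with hn' | hn'
    · exact ih P (Nat.lt_succ_iff.mp hn') hP ⟨i, hi⟩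
    set a := P.coeff (n + 1)
    obtain ⟨b, hb⟩ : ∃ b, algebraMap G L b = a • x := by
      have := isIntegral_leadingCoeff_smul P x hP
      rw [leadingCoeff, hn'] at this
      exact IsIntegrallyClosed.isIntegral_iff.mp this
    by_cases hbu : IsUnit b
    · right
      refine ⟨a * ↑hbu.unit⁻¹, ?_⟩
      rw [map_mul, mul_right_comm, ← Algebra.smul_def, ← hb, ← map_mul, hbu.mul_val_inv, map_one]
    by_cases hau : IsUnit a
    · left
      refine ⟨↑hau.unit⁻¹ * b, ?_⟩
      rw [map_mul, hb, Algebra.smul_def, ← mul_assoc, ← map_mul, hau.val_inv_mul, map_one, one_mul]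
    refine ih (P.erase (n + 1) + C b * X ^ n) ?_ ?_ ?_
    · refine natDegree_le_iff_coeff_eq_zero.mpr fun k hk => ?_
      rw [coeff_add, coeff_C_mul_X_pow, if_neg (by omega), add_zero, coeff_erase]
      split_ifs with h
      · rfl
      · exact coeff_eq_zero_of_natDegree_lt (by omega)
    · rw [map_add, map_mul, aeval_C, map_pow, aeval_X, hb, Algebra.smul_def, mul_assoc, ← pow_succ']
      have h := congrArg (aeval x) (monomial_add_erase P (n + 1))
      rw [map_add, hP, ← C_mul_X_pow_eq_monomial, map_mul, aeval_C, map_pow, aeval_X] at h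
      rw [add_comm]
      exact h
    · refine ⟨i, ?_⟩
      rw [coeff_add, coeff_C_mul_X_pow, coeff_erase]
      have hi' : i ≠ n + 1 := fun h => by subst h; exact hau hi
      rw [if_neg hi']
      split_ifs with h
      · rcases isUnit_or_isUnit_of_isUnit_add (a := P.coeff i + b) (b := -b)
          (by simpa using hi) with h' | h'
        · exact h'
        · exact absurd (by simpa using h') hbu
      · rwa [add_zero]

section

variable {A G Ω : Type u} [CommRing A] [IsDomain A] [ValuationRing A] [CommRing G] [IsLocalRing G]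
  [Algebra A G] [IsDomain G] [IsIntegrallyClosed G] [Field Ω] [IsAlgClosed Ω]
  [Algebra A Ω] [Algebra G Ω] [IsScalarTower A G Ω]

/-- The core of the argument: a normal local domain dominating `A` and generated by a simple root
has the values of `A`. -/
theorem exists_eq_mul_algebraMap (hinj : Function.Injective (algebraMap G Ω))
    (hAG : Function.Injective (algebraMap A G)) [IsLocalHom (algebraMap A G)] (xG : G) (f : A[X])
    (hf : f.Monic) (hfx : aeval xG f = 0) (hder : IsUnit (aeval xG f.derivative))
    (hgen : ∀ g : G, ∃ p q : A[X], IsUnit (aeval xG q) ∧ g * aeval xG q = aeval xG p) :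
    ValuationRing G ∧ ∀ g : G, g ≠ 0 → ∃ (a : A) (u : Gˣ), g = u * algebraMap A G a := by
  classical
  let K := FractionRing A
  have hAΩ : Function.Injective (algebraMap A Ω) := by
    rw [IsScalarTower.algebraMap_eq A G Ω]
    exact hinj.comp hAG
  let ι : K →+* Ω := IsFractionRing.lift hAΩ
  let _ : Algebra K Ω := ι.toAlgebra
  have hι : ∀ a : A, algebraMap K Ω (algebraMap A K a) = algebraMap A Ω a := fun a =>
    IsFractionRing.lift_algebraMap hAΩ a
  obtain ⟨W, hW, hWloc⟩ := IsLocalRing.exists_factor_valuationRing (algebraMap G Ω)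
  let v := W.valuation
  have hGW : ∀ g : G, algebraMap G Ω g ∈ W := hW
  have hGu : ∀ g : G, IsUnit g ↔ v (algebraMap G Ω g) = 1 := fun g => by
    rw [← W.valuation_eq_one_iff ⟨_, hGW g⟩]
    exact ⟨fun h => h.map ((algebraMap G Ω).codRestrict W.toSubring hW),
      fun h => hWloc.map_nonunit g h⟩
  have hAW : ∀ a : A, algebraMap A Ω a ∈ W := fun a => by
    rw [IsScalarTower.algebraMap_apply A G Ω]; exact hGW _
  have hAu : ∀ a : A, IsUnit a ↔ v (algebraMap A Ω a) = 1 := fun a => by
    rw [IsScalarTower.algebraMap_apply A G Ω, ← hGu]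
    exact (isUnit_map_iff (algebraMap A G) a).symm
  have hKW : ∀ k : K, algebraMap K Ω k ∈ W → ∃ a : A, algebraMap A K a = k := by
    intro k hk
    rcases ValuationRing.isInteger_or_isInteger A k with h | ⟨c, hc⟩
    · exact h
    rcases eq_or_ne k 0 with rfl | hk0
    · exact ⟨0, map_zero _⟩
    have hcu : IsUnit c := by
      rw [hAu]
      refine le_antisymm ((W.valuation_le_one_iff _).mpr (hAW c)) ?_
      rw [← hι, hc, map_inv₀, map_inv₀]
      exact one_le_inv₀ (zero_lt_iff.mpr (by simpa using hk0)) |>.mpr ((W.valuation_le_one_iff _).mpr hk)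
    refine ⟨↑hcu.unit⁻¹, ?_⟩
    rw [← inv_inv k, ← hc]
    exact (map_units_inv (algebraMap A K) hcu.unit)
  -- the residual approximation of the generator
  let x : Ω := algebraMap G Ω xG
  let ρ : A →+* W := (algebraMap A Ω).codRestrict W.toSubring hAW
  have hρ : IsLocalHom ρ := ⟨fun a ha => (hAu a).mpr ((W.valuation_eq_one_iff (ρ a)).mp ha)⟩
  let kW := ResidueField W
  let _ : Algebra (ResidueField A) kW := (ResidueField.map ρ).toAlgebra
  let xW : W := ⟨x, hGW xG⟩
  have hev : ∀ p : A[X], eval₂ (algebraMap A Ω) x p = algebraMap G Ω (aeval xG p) := fun p => by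
    rw [show algebraMap G Ω (aeval xG p) = aeval x p from (aeval_algebraMap_apply Ω xG p).symm]; rfl
  have hevW : ∀ (p : A[X]) (y : W), W.subtype (eval₂ ρ y p) = eval₂ (algebraMap A Ω) (y : Ω) p :=
    fun p y => hom_eval₂ p ρ W.subtype y
  have hres : ∀ (p : A[X]) (y : W), residue W (eval₂ ρ y p) = aeval (residue W y) (p.map (residue A)) :=
    fun p y => by
      rw [hom_eval₂, aeval_def, eval₂_map]
      rfl
  have hfW : eval₂ ρ xW f = 0 := W.subtype_injective (by
    rw [hevW, map_zero, show (xW : Ω) = x from rfl, hev, hfx, map_zero])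
  have hx_int : IsIntegral (ResidueField A) (residue W xW) :=
    ⟨f.map (residue A), hf.map _, by rw [← aeval_def, ← hres, hfW, map_zero]⟩
  obtain ⟨h, hh, hhd, hhm⟩ := lifts_and_natDegree_eq_and_monic (f := residue A)
    (p := minpoly (ResidueField A) (residue W xW)) (by
      obtain ⟨q, hq⟩ := map_surjective (residue A) residue_surjective (minpoly (ResidueField A) (residue W xW))
      exact ⟨q, hq⟩) (minpoly.monic hx_int)
  obtain ⟨α, hαroot, hαres⟩ : ∃ α : W, eval₂ (algebraMap A Ω) (α : Ω) h = 0 ∧
      residue W α = residue W xW := by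
    have hlt : v (eval₂ (algebraMap A Ω) x h) < 1 := by
      rw [show x = (xW : Ω) from rfl, ← hevW]
      exact (W.valuation_lt_one_iff _).mp ((residue_eq_zero_iff _).mp (by
        rw [hres, hh, minpoly.aeval]))
    have hprod := (IsAlgClosed.splits (h.map (algebraMap A Ω))).eq_prod_roots_of_monic (hhm.map _)
    rw [← eval_map, hprod, eval_multiset_prod, Multiset.map_map, map_multiset_prod,
      Multiset.map_map] at hlt
    have hroot : ∀ r ∈ (h.map (algebraMap A Ω)).roots, eval₂ (algebraMap A Ω) r h = 0 := fun r hr => by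
      rw [← eval_map]
      exact (mem_roots (hhm.map _).ne_zero).mp hr
    have hrW : ∀ r ∈ (h.map (algebraMap A Ω)).roots, r ∈ W := fun r hr =>
      mem_of_root W (hhm.map ρ) (by rw [eval₂_map]; exact hroot r hr)
    by_contra hne
    refine hlt.ne (Multiset.prod_eq_one fun w hw => ?_)
    obtain ⟨r, hr, rfl⟩ := Multiset.mem_map.mp hw
    show v (eval x (X - C r)) = 1
    rw [eval_sub, eval_X, eval_C, show x - r = ((xW - ⟨r, hrW r hr⟩ : W) : Ω) from rfl,
      ← W.valuation_eq_one_iff, ← residue_ne_zero_iff_isUnit, map_sub, sub_ne_zero]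
    exact fun h' => hne ⟨⟨r, hrW r hr⟩, hroot r hr, h'.symm⟩
  let F : IntermediateField K Ω := IntermediateField.adjoin K {(α : Ω)}
  have hKA : ∀ (p : A[X]) (y : Ω), aeval y (p.map (algebraMap A K)) = eval₂ (algebraMap A Ω) y p :=
    fun p y => by
      rw [aeval_def, eval₂_map]
      congr 1
      exact RingHom.ext hι
  have step1 : ∀ z ∈ F, HasValue W K z := by
    refine fun z hz => hasValue_of_residual W α.2 (hhm.map (algebraMap A K))
      (by rw [hKA]; exact hαroot) ?_ hz
    intro g hg hdeg ⟨i₀, hi₀⟩
    obtain ⟨gA, hgA, hgd⟩ : ∃ gA : A[X], gA.map ρ = g ∧ gA.natDegree ≤ g.natDegree := by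
      have : g ∈ lifts ρ := (lifts_iff_coeff_lifts g).mpr fun i => by
        obtain ⟨k, hk⟩ := hg i
        obtain ⟨a, ha⟩ := hKW k (hk ▸ (g.coeff i).2)
        exact ⟨a, Subtype.ext (by rw [hk, ← ha, hι]; rfl)⟩
      obtain ⟨q, hq⟩ := this
      have hq' : q.map ρ = g := hq
      refine ⟨q, hq', ?_⟩
      rw [← hq', natDegree_map_eq_of_injective]
      intro a b hab
      exact hAΩ (congrArg Subtype.val hab)
    rw [show eval₂ W.subtype (α : Ω) g = ((eval₂ ρ α gA : W) : Ω) by
      rw [← hgA, eval₂_map, show ((eval₂ ρ α gA : W) : Ω) = W.subtype (eval₂ ρ α gA) from rfl,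
        hom_eval₂]
      rfl,
      ← W.valuation_eq_one_iff, ← residue_ne_zero_iff_isUnit, hres, hαres]
    intro h0
    rw [natDegree_map_eq_of_injective (IsFractionRing.injective A K), hhd] at hdeg
    have hz : gA.map (residue A) = 0 := by
      by_contra hne
      have h1 := natDegree_le_natDegree (minpoly.degree_le_of_ne_zero _ _ hne h0)
      have h2 : (gA.map (residue A)).natDegree ≤ gA.natDegree := natDegree_map_le
      omega
    have h3 := congrArg (fun q => coeff q i₀) hz
    rw [coeff_map, coeff_zero, residue_eq_zero_iff] at h3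
    refine h3 ((hAu _).mpr ?_)
    rw [← hgA, coeff_map] at hi₀
    exact hi₀
  have hfF : ∀ i, ∃ a : F, ((f.map ρ).coeff i : Ω) = algebraMap F Ω a := fun i =>
    ⟨algebraMap K F (algebraMap A K (f.coeff i)), by
      rw [← IsScalarTower.algebraMap_apply K F Ω, hι, coeff_map]; rfl⟩
  have hder' : v (eval₂ W.subtype x (f.map ρ).derivative) = 1 := by
    rw [derivative_map, eval₂_map, show W.subtype.comp ρ = algebraMap A Ω from rfl, hev]
    exact (hGu _).mp hder
  have hαlt : v (x - algebraMap F Ω ⟨α, IntermediateField.mem_adjoin_simple_self K (α : Ω)⟩) < 1 :=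
    (W.valuation_lt_one_iff (xW - α)).mp ((residue_eq_zero_iff _).mp (by
      rw [map_sub, hαres, sub_self]))
  have step2 : ∀ z ∈ IntermediateField.adjoin K ({x} : Set Ω), HasValue W K z := by
    intro z hz
    have hle : IntermediateField.adjoin K ({x} : Set Ω) ≤
        (IntermediateField.adjoin F ({x} : Set Ω)).restrictScalars K :=
      IntermediateField.adjoin_simple_le_iff.mpr (IntermediateField.mem_adjoin_simple_self F x)
    obtain ⟨a, ha⟩ := hasValue_of_simple_root W (hGW xG) (hf.map ρ) hfF
      (by rw [eval₂_map, show W.subtype.comp ρ = algebraMap A Ω from rfl, hev, hfx, map_zero])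
      hder' hαlt (hle hz)
    obtain ⟨b, hb⟩ := step1 a a.2
    exact ⟨b, ha.trans hb⟩
  have hmemx : ∀ g : G, algebraMap G Ω g ∈ IntermediateField.adjoin K ({x} : Set Ω) := fun g => by
    obtain ⟨p, q, hq, hpq⟩ := hgen g
    have hp : ∀ p : A[X], algebraMap G Ω (aeval xG p) ∈ IntermediateField.adjoin K ({x} : Set Ω) :=
      fun p => by
        rw [← hev, ← hKA]
        exact IntermediateField.algebra_adjoin_le_adjoin K _ (Polynomial.aeval_mem_adjoin_singleton _ _)
    rw [← hq.unit_spec] at hpq
    have h := congrArg (algebraMap G Ω) hpq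
    rw [map_mul, hq.unit_spec] at h
    rw [show algebraMap G Ω g = algebraMap G Ω (aeval xG p) / algebraMap G Ω (aeval xG q) from
      eq_div_of_mul_eq (fun h0 => (hq.map (algebraMap G Ω)).ne_zero h0) h]
    exact div_mem (hp p) (hp q)
  -- normalised equations
  let L := FractionRing G
  let j : L →ₐ[G] Ω := IsFractionRing.liftAlgHom (g := Algebra.ofId G Ω) hinj
  have hjmem : ∀ z : L, j z ∈ IntermediateField.adjoin K ({x} : Set Ω) := fun z => by
    obtain ⟨a, b, -, rfl⟩ := IsFractionRing.div_surjective G z
    rw [map_div₀, AlgHom.commutes, AlgHom.commutes]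
    exact div_mem (hmemx a) (hmemx b)
  have hfK : aeval x (f.map (algebraMap A K)) = 0 := by rw [hKA, hev, hfx, map_zero]
  have hxint : IsIntegral K x := ⟨f.map (algebraMap A K), hf.map _, hfK⟩
  have hGL : ∀ z : L, (∃ g, algebraMap G L g = z) ∨ ∃ g, algebraMap G L g * z = 1 := by
    intro z
    have halg : IsIntegral K (j z) := by
      have := IntermediateField.adjoin.finiteDimensional hxint
      exact (Algebra.IsIntegral.isIntegral (R := K) (⟨j z, hjmem z⟩ : IntermediateField.adjoin K ({x} : Set Ω))).map
        (IntermediateField.adjoin K ({x} : Set Ω)).val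
    set q := minpoly K (j z)
    have hq0 : q ≠ 0 := minpoly.ne_zero halg
    obtain ⟨i₀, hi₀, hmax⟩ := q.support.exists_max_image
      (fun i => v (algebraMap K Ω (q.coeff i))) (support_nonempty.mpr hq0)
    have hc0 : q.coeff i₀ ≠ 0 := mem_support_iff.mp hi₀
    have hint : ∀ i, ∃ a : A, algebraMap A K a = (C (q.coeff i₀)⁻¹ * q).coeff i := fun i => by
      refine hKW _ ?_
      rw [coeff_C_mul, map_mul, map_inv₀, ← W.valuation_le_one_iff, map_mul, map_inv₀,
        inv_mul_le_one₀ (zero_lt_iff.mpr (by simpa using hc0))]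
      by_cases hi : i ∈ q.support
      · exact hmax i hi
      · rw [notMem_support_iff.mp hi, map_zero, map_zero]
        exact zero_le
    obtain ⟨P, hP⟩ : C (q.coeff i₀)⁻¹ * q ∈ lifts (algebraMap A K) :=
      (lifts_iff_coeff_lifts _).mpr hint
    refine mem_or_inv_of_unit_coeff (P.map (algebraMap A G)) (x := z) (j.toRingHom.injective ?_)
      ⟨i₀, ?_⟩
    · rw [map_zero]
      show j (aeval z (P.map (algebraMap A G))) = 0
      rw [← aeval_algHom_apply, aeval_def, eval₂_map, ← IsScalarTower.algebraMap_eq, ← hKA,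
        show P.map (algebraMap A K) = C (q.coeff i₀)⁻¹ * q from hP, map_mul, minpoly.aeval, mul_zero]
    · rw [coeff_map, isUnit_map_iff (algebraMap A G), hAu, ← hι,
        show algebraMap A K (P.coeff i₀) = 1 by
          have := congrArg (fun p => coeff p i₀) hP
          rw [coeff_C_mul, inv_mul_cancel₀ hc0] at this
          simpa using this, map_one, map_one]
  refine ⟨(ValuationRing.iff_isInteger_or_isInteger G L).mpr fun z => ?_, fun g hg => ?_⟩
  · rcases hGL z with h | ⟨y, hy⟩
    · exact Or.inl h
    · exact Or.inr ⟨y, eq_inv_of_mul_eq_one_left hy⟩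
  · obtain ⟨k, hk⟩ := step2 _ (hmemx g)
    have hg0 : algebraMap G Ω g ≠ 0 := fun h => hg (hinj (by rw [h, map_zero]))
    obtain ⟨a, ha⟩ := hKW k (by
      rw [← W.valuation_le_one_iff, ← hk]
      exact (W.valuation_le_one_iff _).mpr (hGW g))
    rw [← ha, hι] at hk
    have ha0 : algebraMap A Ω a ≠ 0 := fun h => by
      rw [h, map_zero, Valuation.zero_iff] at hk
      exact hg0 hk
    set z : L := algebraMap G L g / algebraMap G L (algebraMap A G a)
    have hjz : v (j z) = 1 := by
      rw [map_div₀, AlgHom.commutes, AlgHom.commutes, ← IsScalarTower.algebraMap_apply, map_div₀,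
        hk, div_self (by simpa using ha0)]
    have hden : algebraMap G L (algebraMap A G a) ≠ 0 := fun h => ha0 (by
      rw [IsScalarTower.algebraMap_apply A G Ω, IsFractionRing.injective G L (h.trans (map_zero _).symm),
        map_zero])
    rcases hGL z with ⟨y, hy⟩ | ⟨y, hy⟩
    · have hyu : IsUnit y := by rw [hGu, ← j.commutes, hy, hjz]
      refine ⟨a, hyu.unit, IsFractionRing.injective G L ?_⟩
      rw [map_mul, hyu.unit_spec, hy, div_mul_cancel₀ _ hden]
    · have hyu : IsUnit y := by
        have := congrArg (fun t => v (j t)) hy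
        simp only [map_mul, hjz, mul_one, map_one, AlgHom.commutes] at this
        exact (hGu y).mpr this
      refine ⟨a, hyu.unit⁻¹, IsFractionRing.injective G L ?_⟩
      rw [map_mul, map_units_inv]
      rw [show algebraMap G L g = z * algebraMap G L (algebraMap A G a) from
        (div_mul_cancel₀ _ hden).symm, hyu.unit_spec, ← eq_inv_of_mul_eq_one_right hy]

end

theorem etale_local_valuation {A : Type u} [CommRing A] [IsDomain A] [ValuationRing A] {B : Type u}
    [CommRing B] [Algebra A B] [Algebra.Etale A B] (m : Ideal B) [m.IsPrime]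
    (hm : m.comap (algebraMap A B) = maximalIdeal A) :
    (∃ _ : IsDomain (Localization.AtPrime m), ValuationRing (Localization.AtPrime m)) ∧
    Function.Injective (algebraMap A (Localization.AtPrime m)) ∧
    IsLocalHom (algebraMap A (Localization.AtPrime m)) ∧
    ∀ b : Localization.AtPrime m, b ≠ 0 → ∃ (a : A) (u : (Localization.AtPrime m)ˣ),
      b = u * algebraMap A (Localization.AtPrime m) a := by
  classical
  let G := Localization.AtPrime m
  have : Algebra.FormallyEtale B G := Algebra.FormallyEtale.of_isLocalization m.primeCompl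
  have hfe : Algebra.FormallyEtale A G := Algebra.FormallyEtale.comp A B G
  have : Algebra.EssFiniteType A G := Algebra.EssFiniteType.comp A B G
  have : Module.Flat B G := IsLocalization.flat G m.primeCompl
  have : Module.Flat A G := Module.Flat.trans A B G
  have hloc : IsLocalHom (algebraMap A G) := by
    refine ((local_hom_TFAE _).out 4 0 rfl rfl).mp ?_
    rw [IsScalarTower.algebraMap_eq A B G, ← Ideal.comap_comap,
      show Ideal.comap (algebraMap B G) (maximalIdeal G) = m from
        IsLocalization.AtPrime.under_maximalIdeal G m, hm]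
  have : Module.FaithfullyFlat A G := Module.FaithfullyFlat.of_flat_of_isLocalHom
  have hinjA : Function.Injective (algebraMap A G) := FaithfulSMul.algebraMap_injective A G
  have : IsIntegrallyClosed A :=
    (isIntegrallyClosed_iff (FractionRing A)).mpr fun {x} hx => by
      rcases ValuationRing.isInteger_or_isInteger A x with h | ⟨c, hc⟩
      · exact h
      rcases eq_or_ne x 0 with rfl | hx0
      · exact ⟨0, map_zero _⟩
      obtain ⟨p, hp, hpx⟩ := hx
      have hcu : IsUnit c := by
        -- clear denominators in the monic equation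
        have h0 : algebraMap A (FractionRing A) c * x = 1 := by rw [hc, inv_mul_cancel₀ hx0]
        have hsum := scaleRoots_eval₂_eq_zero (s := c) (algebraMap A (FractionRing A)) hpx
        rw [h0, ← map_one (algebraMap A (FractionRing A)), eval₂_at_apply,
          map_eq_zero_iff _ (IsFractionRing.injective A (FractionRing A)),
          eval_eq_sum_range, Finset.sum_range_succ, natDegree_scaleRoots,
          coeff_scaleRoots_natDegree, hp.leadingCoeff] at hsum
        simp only [one_pow, mul_one] at hsum
        refine isUnit_of_dvd_one ?_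
        rw [show (1 : A) = -∑ i ∈ Finset.range p.natDegree, (p.scaleRoots c).coeff i by
          linear_combination hsum]
        refine (dvd_neg).mpr (Finset.dvd_sum fun i hi => ?_)
        rw [coeff_scaleRoots]
        exact dvd_mul_of_dvd_right (dvd_pow_self c
          (Nat.sub_ne_zero_of_lt (Finset.mem_range.mp hi))) _
      refine ⟨↑hcu.unit⁻¹, ?_⟩
      rw [← inv_inv x, ← hc]
      exact map_units_inv (algebraMap A (FractionRing A)) hcu.unit
  obtain ⟨hd, hc⟩ := Hens.isDomain_isIntegrallyClosed_of_toIntegralClosure A G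
    (TensorProduct.toIntegralClosure_bijective_of_tower (S := B)
      TensorProduct.toIntegralClosure_bijective_of_smooth
      (TensorProduct.toIntegralClosure_bijective_of_isLocalization m.primeCompl))
  have : Algebra.IsEtaleAt A m := hfe
  obtain ⟨r, hr, hst⟩ := Algebra.IsEtaleAt.exists_isStandardEtale (R := A) m
  let P := hst.nonempty_standardEtalePresentation.some
  let loc : Localization.Away r →ₐ[A] G :=
    IsLocalization.Away.liftAlgHom r (f := IsScalarTower.toAlgHom A B G)
      (IsLocalization.map_units G (⟨r, hr⟩ : m.primeCompl))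
  let χ : P.Ring →ₐ[A] G := loc.comp P.equivRing.symm.toAlgHom
  let xG : G := χ P.X
  have hhm : P.HasMap xG := P.hasMap_X.map χ
  have hgen : ∀ z : P.Ring, ∃ (p : A[X]) (n : ℕ), z * aeval P.X P.g ^ n = aeval P.X p := fun z => by
    obtain ⟨w, rfl⟩ := P.equivAwayAdjoinRoot.symm.surjective z
    obtain ⟨n, c, hc⟩ := IsLocalization.Away.surj (AdjoinRoot.mk P.f P.g) w
    obtain ⟨p, rfl⟩ := AdjoinRoot.mk_surjective c
    have hmk : ∀ q : A[X], P.equivAwayAdjoinRoot.symm (algebraMap _ _ (AdjoinRoot.mk P.f q)) =
        aeval P.X q := fun q => by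
      let τ : AdjoinRoot P.f →ₐ[A] P.Ring :=
        P.equivAwayAdjoinRoot.symm.toAlgHom.comp (IsScalarTower.toAlgHom A _ _)
      show τ (AdjoinRoot.mk P.f q) = _
      rw [← AdjoinRoot.aeval_eq, ← aeval_algHom_apply, show τ (AdjoinRoot.root P.f) = P.X from ?_]
      show P.equivAwayAdjoinRoot.symm (algebraMap _ _ (AdjoinRoot.root P.f)) = P.X
      rw [AlgEquiv.symm_apply_eq]
      simp [StandardEtalePair.equivAwayAdjoinRoot]
    refine ⟨p, n, ?_⟩
    rw [← hmk P.g, ← map_pow, ← map_mul, hc, hmk]
  have hgenG : ∀ g : G, ∃ p q : A[X], IsUnit (aeval xG q) ∧ g * aeval xG q = aeval xG p := by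
    have hB : ∀ b : B, ∃ (p : A[X]) (n : ℕ),
        algebraMap B G b * aeval xG P.g ^ n = aeval xG p := fun b => by
      obtain ⟨p, n, h⟩ := hgen (P.equivRing (algebraMap B _ b))
      refine ⟨p, n, ?_⟩
      have h2 := congrArg χ h
      rw [map_mul, map_pow, ← aeval_algHom_apply, ← aeval_algHom_apply] at h2
      rw [show χ (P.equivRing (algebraMap B _ b)) = algebraMap B G b by
        show loc (P.equivRing.symm (P.equivRing _)) = _
        rw [AlgEquiv.symm_apply_apply]
        exact IsLocalization.Away.lift_eq (S := Localization.Away r) r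
          (g := (IsScalarTower.toAlgHom A B G).toRingHom)
          (IsLocalization.map_units G (⟨r, hr⟩ : m.primeCompl)) b] at h2
      exact h2
    intro g
    obtain ⟨s, t, rfl⟩ := IsLocalization.exists_mk'_eq m.primeCompl g
    obtain ⟨p, n, hp⟩ := hB s
    obtain ⟨q, k, hq⟩ := hB t
    refine ⟨p * P.g ^ k, q * P.g ^ n, ?_, ?_⟩
    · rw [map_mul, map_pow, ← hq]
      exact ((IsLocalization.map_units G t).mul (hhm.2.pow _)).mul (hhm.2.pow _)
    · rw [map_mul, map_mul, map_pow, map_pow, ← hp, ← hq]
      rw [← mul_assoc, ← mul_assoc, IsLocalization.mk'_spec]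
      ring
  let Ω := AlgebraicClosure (FractionRing G)
  have : IsScalarTower A G Ω := inferInstance
  obtain ⟨h1, h2⟩ := exists_eq_mul_algebraMap (Ω := Ω)
    (by
      rw [IsScalarTower.algebraMap_eq G (FractionRing G) Ω]
      exact (algebraMap (FractionRing G) Ω).injective.comp (IsFractionRing.injective G (FractionRing G)))
    hinjA xG P.f P.monic_f hhm.1 hhm.isUnit_derivative_f hgenG
  exact ⟨⟨hd, h1⟩, hinjA, hloc, h2⟩

end Groth.Agent.ValEtH7
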