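import Groth.Agent.Lib.ValEtH7.Etale
import Groth.Agent.Lib.Hens.Henselization

/-!
Henselizations of valuation rings.
-/

universe u

open IsLocalRing

namespace Groth.Agent.ValEtH7

open Hens

theorem hs_valuation {R : Type u} [CommRing R] [IsDomain R] [ValuationRing R] {K : Type u} [Field K]
    [Algebra R K] [Algebra (ResidueField R) K] [IsScalarTower R (ResidueField R) K] :
    (∃ _ : IsDomain (Hs R K), ValuationRing (Hs R K)) ∧
    ∀ s : Hs R K, s ≠ 0 → ∃ (a : R) (u : (Hs R K)ˣ), s = u * algebraMap R (Hs R K) a := by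
  have key : ∀ i : Nbhd R K, (∃ _ : IsDomain i.G, ValuationRing i.G) ∧
      Function.Injective (algebraMap R i.G) ∧ IsLocalHom (algebraMap R i.G) ∧
      ∀ b : i.G, b ≠ 0 → ∃ (a : R) (u : (i.G)ˣ), b = u * algebraMap R i.G a := fun i => by
    refine etale_local_valuation (A := R) i.q (Ideal.ext fun r => ?_)
    rw [Ideal.mem_comap, ← Hs.algebraMap_eq_zero_iff_mem (K := K) r]
    show i.σ (algebraMap R i.S r) = 0 ↔ _
    rw [AlgHom.commutes]
  have hval : ∀ s : Hs R K, s ≠ 0 → ∃ (a : R) (u : (Hs R K)ˣ), s = u * algebraMap R (Hs R K) a := by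
    intro s hs
    obtain ⟨i, y, rfl⟩ := Hs.exists_of s
    obtain ⟨a, u, h⟩ := (key i).2.2.2 y fun h0 => hs (by rw [h0, map_zero])
    refine ⟨a, (u.isUnit.map (Hs.of i)).unit, ?_⟩
    rw [IsUnit.unit_spec, h, map_mul, AlgHom.commutes]
  have hne : Nontrivial (Hs R K) := inferInstance
  have hinj : Function.Injective (algebraMap R (Hs R K)) := FaithfulSMul.algebraMap_injective R _
  have hd : IsDomain (Hs R K) := by
    refine @NoZeroDivisors.to_isDomain _ _ _ ⟨fun {a b} hab => ?_⟩
    by_contra hcon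
    obtain ⟨ha, hb⟩ := not_or.mp hcon
    obtain ⟨x, u, rfl⟩ := hval a ha
    obtain ⟨y, w, rfl⟩ := hval b hb
    rw [mul_mul_mul_comm, ← map_mul, ← Units.val_mul, Units.mul_right_eq_zero] at hab
    rcases mul_eq_zero.mp (hinj (hab.trans (map_zero _).symm)) with h | h
    · exact ha (by rw [h, map_zero, mul_zero])
    · exact hb (by rw [h, map_zero, mul_zero])
  refine ⟨⟨hd, ValuationRing.iff_dvd_total.mpr ⟨fun a b => ?_⟩⟩, hval⟩
  rcases eq_or_ne a 0 with rfl | ha
  · exact Or.inr (dvd_zero _)
  rcases eq_or_ne b 0 with rfl | hb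
  · exact Or.inl (dvd_zero _)
  obtain ⟨x, u, rfl⟩ := hval a ha
  obtain ⟨y, w, rfl⟩ := hval b hb
  rcases (ValuationRing.iff_dvd_total.mp (inferInstance : ValuationRing R)).total x y with h | h
  · exact Or.inl ((Units.mul_left_dvd).mpr (Dvd.dvd.mul_left (map_dvd _ h) _))
  · exact Or.inr ((Units.mul_left_dvd).mpr (Dvd.dvd.mul_left (map_dvd _ h) _))

theorem henselization_valuation (A S : Type u) [CommRing A] [IsDomain A] [ValuationRing A] [CommRing S]
    [IsLocalRing S] [Algebra A S] [IsLocalHom (algebraMap A S)]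
    (h : Hensel.IsHenselization A S ∨ Hensel.IsStrictHenselization A S) :
    IsDomain S ∧ (∀ _ : IsDomain S, ValuationRing S) ∧ Function.Injective (algebraMap A S) ∧
      ∀ s : S, s ≠ 0 → ∃ (a : A) (u : Sˣ), s = u * algebraMap A S a := by
  have aux : ∀ {K : Type u} [Field K] [Algebra A K] [Algebra (ResidueField A) K]
      [IsScalarTower A (ResidueField A) K], (Hs A K ≃ₐ[A] S) →
      IsDomain S ∧ (∀ _ : IsDomain S, ValuationRing S) ∧ Function.Injective (algebraMap A S) ∧
      ∀ s : S, s ≠ 0 → ∃ (a : A) (u : Sˣ), s = u * algebraMap A S a := by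
    intro K _ _ _ _ e
    obtain ⟨⟨hd, hv⟩, hval⟩ := hs_valuation (R := A) (K := K)
    have hdS : IsDomain S :=
      (show Function.Injective e.symm.toRingHom from e.symm.injective).isDomain e.symm.toRingHom
    refine ⟨hdS, fun _ => ValuationRing.iff_dvd_total.mpr ⟨fun a b => ?_⟩, ?_, fun s hs => ?_⟩
    · rcases (ValuationRing.iff_dvd_total.mp hv).total (e.symm a) (e.symm b) with h | h
      · exact Or.inl (by simpa using map_dvd e h)
      · exact Or.inr (by simpa using map_dvd e h)
    · intro a b hab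
      have := congrArg e.symm hab
      rw [AlgEquiv.commutes, AlgEquiv.commutes] at this
      exact FaithfulSMul.algebraMap_injective A (Hs A K) this
    · obtain ⟨a, u, hu⟩ := hval (e.symm s) (by simpa using hs)
      refine ⟨a, Units.map e.toRingEquiv.toRingHom.toMonoidHom u, ?_⟩
      have := congrArg e hu
      rw [e.apply_symm_apply, map_mul, AlgEquiv.commutes] at this
      exact this
  rcases h with h | h
  · exact aux (exists_henselization_equiv A S).some
  · exact aux (exists_strictHenselization_equiv A S).some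

end Groth.Agent.ValEtH7
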